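import Groth.Agent.CohBase.AffinePush
import Groth.Agent.CohBase.Modules
import Groth.Agent.CohFin.Linear
import Groth.Agent.EtaleBase.ExtAdj

/-!
# Natural comparison `H^n(X, f_* N) = H^n(X', N)` for affine morphisms
-/

universe u

open CategoryTheory CategoryTheory.Limits AlgebraicGeometry TopologicalSpace Opposite
open CategoryTheory.Abelian (Ext)

namespace Groth.CohBase.FiniteBC

variable {X Y : TopCat.{u}} (f : X ⟶ Y)

/-- The constant sheaf pulls back to the constant sheaf. -/
theorem nonempty_pull_constZ : Nonempty ((CohTop.pull f).obj (constZ Y) ≅ constZ X) := by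
  let aY := constantSheafAdj (Opens.grothendieckTopology Y) AddCommGrpCat.{u} (isTerminalTop)
  let aX := constantSheafAdj (Opens.grothendieckTopology X) AddCommGrpCat.{u} (isTerminalTop)
  let e : CohTop.push f ⋙ (sheafSections (Opens.grothendieckTopology Y) AddCommGrpCat.{u}).obj
      (op ⊤) ≅ (sheafSections (Opens.grothendieckTopology X) AddCommGrpCat.{u}).obj (op ⊤) :=
    NatIso.ofComponents (fun F => Iso.refl _)
  exact ⟨(((aY.comp (SiteCohomology.pullPushAdj f)).ofNatIsoRight e).leftAdjointUniq aX).app _⟩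

instance : (CohTop.pull f).Additive :=
  (SiteCohomology.pullPushAdj f).left_adjoint_additive

instance : PreservesFiniteColimits (CohTop.pull f) :=
  haveI : PreservesColimitsOfSize.{0, 0} (CohTop.pull f) :=
    (SiteCohomology.pullPushAdj f).leftAdjoint_preservesColimits
  inferInstance

instance : PreservesFiniteLimits (CohTop.pull f) := SiteCohomology.preservesFiniteLimits_pull f

/-- Cohomology of an acyclic direct image, naturally. -/
noncomputable def pushMap (F : AbSheaf X) (n : ℕ) :
    Ext (constZ Y) ((pushSheaf f).obj F) n →+ Ext (constZ X) F n :=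
  ((Ext.mk₀ (nonempty_pull_constZ f).some.inv).precomp F (zero_add n)).comp
    (Groth.EtaleBase.ExtAdj.adjExt (SiteCohomology.pullPushAdj f) (constZ Y) F n)

lemma pushMap_apply (F : AbSheaf X) (n : ℕ) (x : Ext (constZ Y) ((pushSheaf f).obj F) n) :
    pushMap f F n x = (Ext.mk₀ (nonempty_pull_constZ f).some.inv).comp
      (Groth.EtaleBase.ExtAdj.adjExt (SiteCohomology.pullPushAdj f) (constZ Y) F n x)
      (zero_add n) := rfl

lemma pushMap_natural {F G : AbSheaf X} (φ : F ⟶ G) (n : ℕ)
    (x : Ext (constZ Y) ((pushSheaf f).obj F) n) :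
    pushMap f G n (x.comp (Ext.mk₀ ((pushSheaf f).map φ)) (add_zero n)) =
      (pushMap f F n x).comp (Ext.mk₀ φ) (add_zero n) := by
  rw [pushMap_apply, pushMap_apply, Groth.EtaleBase.ExtAdj.adjExt_comp_map,
    Ext.comp_assoc_of_third_deg_zero]

lemma pushMap_bijective {F : AbSheaf X} (hF : PushAcyclic f F) (n : ℕ) :
    Function.Bijective (pushMap f F n) := by
  have h := Groth.EtaleBase.ExtAdj.adjExt_bijective (SiteCohomology.pullPushAdj f) (constZ Y) n F
    (fun j => hF.isZero_rightDerived j)
  let c := (nonempty_pull_constZ f).some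
  suffices hc : Function.Bijective fun z : Ext ((CohTop.pull f).obj (constZ Y)) F n =>
      (Ext.mk₀ c.inv).comp z (zero_add n) from hc.comp h
  refine ⟨fun a b hab => ?_, fun y => ⟨(Ext.mk₀ c.hom).comp y (zero_add n), ?_⟩⟩
  · have := congrArg (fun z => (Ext.mk₀ c.hom).comp z (zero_add n)) hab
    simpa [Ext.mk₀_comp_mk₀_assoc] using this
  · change (Ext.mk₀ c.inv).comp ((Ext.mk₀ c.hom).comp y (zero_add n)) (zero_add n) = y
    rw [Ext.mk₀_comp_mk₀_assoc, c.inv_hom_id, Ext.mk₀_id_comp]

section Scheme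

variable {X X' : Scheme.{u}} (h : X' ⟶ X) [IsAffineHom h]
  {A A' : Type u} [CommRing A] [CommRing A'] (σ : X ⟶ Spec (CommRingCat.of A))
  (σ' : X' ⟶ Spec (CommRingCat.of A'))

open Groth.CohFin (HA mapL toE)

/-- `H^n(X, h_* N) ≃ H^n(X', N)`. -/
noncomputable def pushHA (N : X'.Modules) [N.IsQuasicoherent] (n : ℕ) :
    HA σ ((Scheme.Modules.pushforward h).obj N) n ≃+ HA σ' N n :=
  (toE σ _ n).trans ((AddEquiv.ofBijective (pushMap h.base (abSheaf N) n)
    (pushMap_bijective h.base (pushAcyclic_of_isAffineHom h N) n)).trans (toE σ' N n).symm)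

lemma pushHA_natural {N N' : X'.Modules} [N.IsQuasicoherent] [N'.IsQuasicoherent] (φ : N ⟶ N')
    (n : ℕ) (x : HA σ ((Scheme.Modules.pushforward h).obj N) n) :
    pushHA h σ σ' N' n (mapL σ ((Scheme.Modules.pushforward h).map φ) n x) =
      mapL σ' φ n (pushHA h σ σ' N n x) :=
  pushMap_natural h.base ((toAbF X').map φ) n (toE σ _ n x)

end Scheme

end Groth.CohBase.FiniteBC
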