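import Groth.Agent.CohBase.FiniteBC.PushNat
import Groth.Agent.CohBase.FlatBC.AffineBase
import Groth.Agent.CohBase.AffineBC
import Mathlib.Algebra.Module.Projective
import Mathlib.RingTheory.Finiteness.Projective

/-!
# Base change along a finite projective algebra
-/

universe u

open CategoryTheory CategoryTheory.Limits AlgebraicGeometry TopologicalSpace Opposite
open scoped TensorProduct
open Groth.QCohMod (sectionsAlg)
open Groth.PicAux (pullSec pullSec_smul)

namespace Groth.CohBase.FiniteBC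

open Groth.CohFin (HA mapL mapL_comp mapL_id mapL_add toE toE_smul toE_mapL)

section Alg

variable {A B H : Type u} [CommRing A] [CommRing B] [Algebra A B] [AddCommGroup H] [Module A H]
  {n : ℕ} (b : Fin n → B) (φ : Fin n → (B →ₗ[A] A))

/-- The coordinate of a tensor. -/
noncomputable def coord (j : Fin n) : B ⊗[A] H →ₗ[A] H :=
  (TensorProduct.lid A H).toLinearMap.comp ((φ j).rTensor H)

lemma coord_tmul (j : Fin n) (c : B) (x : H) : coord φ j (c ⊗ₜ x) = φ j c • x := by
  simp [coord]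

lemma sum_tmul_coord (hb : ∀ c, ∑ j, φ j c • b j = c) (z : B ⊗[A] H) :
    ∑ j, b j ⊗ₜ coord φ j z = z := by
  induction z using TensorProduct.induction_on with
  | zero => simp
  | tmul c x =>
    simp only [coord_tmul, ← TensorProduct.smul_tmul, ← TensorProduct.sum_tmul, hb]
  | add p q hp hq =>
    simp only [map_add, TensorProduct.tmul_add, Finset.sum_add_distrib, hp, hq]

lemma exists_dual_basis (A B : Type u) [CommRing A] [CommRing B] [Algebra A B]
    [Module.Finite A B] [Module.Projective A B] :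
    ∃ (n : ℕ) (b : Fin n → B) (φ : Fin n → (B →ₗ[A] A)), ∀ c, ∑ j, φ j c • b j = c := by
  obtain ⟨n, r, s, -, -, hrs⟩ := Module.Finite.exists_comp_eq_id_of_projective A B
  refine ⟨n, fun j => r (Pi.single j 1), fun j => (LinearMap.proj j).comp s, fun c => ?_⟩
  calc ∑ j, (s c j) • r (Pi.single j 1) = r (∑ j, s c j • Pi.single j 1) := by
        simp only [map_sum, map_smul]
    _ = r (s c) := by rw [← pi_eq_sum_univ' (s c)]
    _ = c := LinearMap.congr_fun hrs c

end Alg

section Smul

variable {X : Scheme.{u}}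

lemma smulModΓ_app (M : X.Modules) (r : Coh.Γtop X) (U : X.Opens) (m : Γ(M, U)) :
    (Formal.smulModΓ M r).app U m = (show Γ(X, U) from Coh.resTop X (op U) r) • m := rfl

lemma smulModΓ_mul (M : X.Modules) (r s : Γ(X, ⊤)) :
    Formal.smulModΓ M (r * s) = Formal.smulModΓ M r ≫ Formal.smulModΓ M s :=
  Scheme.Modules.hom_ext _ _ fun U => AddCommGrpCat.ext fun m => by
    change (show Γ(X, U) from Coh.resTop X (op U) (r * s)) • m =
      (show Γ(X, U) from Coh.resTop X (op U) s) • (show Γ(X, U) from Coh.resTop X (op U) r) • m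
    rw [smul_smul, mul_comm r s]
    exact congrArg (· • m) (map_mul (Coh.resTop X (op U)) s r)

lemma smulModΓ_add (M : X.Modules) (r s : Γ(X, ⊤)) :
    Formal.smulModΓ M (r + s) = Formal.smulModΓ M r + Formal.smulModΓ M s :=
  Scheme.Modules.hom_ext _ _ fun U => AddCommGrpCat.ext fun m => by
    change (show Γ(X, U) from Coh.resTop X (op U) (r + s)) • m =
      (show Γ(X, U) from Coh.resTop X (op U) r) • m + (show Γ(X, U) from Coh.resTop X (op U) s) • m
    rw [← add_smul]
    exact congrArg (· • m) (map_add (Coh.resTop X (op U)) r s)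

/-- `a ↦` multiplication by `a`, additively. -/
noncomputable def smulHom {A : Type u} [CommRing A] (σ : X ⟶ Spec (CommRingCat.of A))
    (M : X.Modules) : A →+ (M ⟶ M) :=
  AddMonoidHom.mk' (fun a => Formal.smulModΓ M (Coh.toGlobal σ a)) fun a a' => by
    rw [map_add]; exact smulModΓ_add M _ _

lemma smulHom_mul {A : Type u} [CommRing A] (σ : X ⟶ Spec (CommRingCat.of A)) (M : X.Modules)
    (a a' : A) : smulHom σ M (a * a') = smulHom σ M a ≫ smulHom σ M a' := by
  change Formal.smulModΓ M (Coh.toGlobal σ (a * a')) = _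
  rw [map_mul]
  exact smulModΓ_mul M _ _

lemma mapL_smulHom {A : Type u} [CommRing A] (σ : X ⟶ Spec (CommRingCat.of A)) (M : X.Modules)
    (a : A) (n : ℕ) (x : HA σ M n) : mapL σ (smulHom σ M a) n x = a • x :=
  (toE σ M n).injective ((toE_mapL σ (smulHom σ M a) n x).trans (toE_smul σ a x).symm)

lemma mapL_sum {A : Type u} [CommRing A] (σ : X ⟶ Spec (CommRingCat.of A)) {M N : X.Modules}
    {ι : Type*} (s : Finset ι) (φ : ι → (M ⟶ N)) (n : ℕ) (x : HA σ M n) :
    mapL σ (∑ i ∈ s, φ i) n x = ∑ i ∈ s, mapL σ (φ i) n x :=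
  map_sum (AddMonoidHom.mk' (fun ψ : M ⟶ N => mapL σ ψ n x) fun a a' => mapL_add σ a a' n x) φ s

end Smul

variable {A B : Type u} [CommRing A] [CommRing B] [Algebra A B] {X X' : Scheme.{u}}
  {σ : X ⟶ Spec (CommRingCat.of A)} {σ' : X' ⟶ Spec (CommRingCat.of B)} {g' : X' ⟶ X}
  (sq : IsPullback g' σ' σ (Spec.map (CommRingCat.ofHom (algebraMap A B))))
  (M : X.Modules)

/-- `η` followed by multiplication by `b`. -/
noncomputable def etaEps (σ' : X' ⟶ Spec (CommRingCat.of B)) (g' : X' ⟶ X) (M : X.Modules)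
    (b : B) : M ⟶ (Scheme.Modules.pushforward g').obj ((Scheme.Modules.pullback g').obj M) :=
  (Scheme.Modules.pullbackPushforwardAdjunction g').unit.app M ≫
    (Scheme.Modules.pushforward g').map (smulHom σ' ((Scheme.Modules.pullback g').obj M) b)

lemma etaEps_app (b : B) (U : X.Opens) (m : Γ(M, U)) :
    (etaEps σ' g' M b).app U m =
      (show Γ(X', g' ⁻¹ᵁ U) from Coh.resTop X' (op (g' ⁻¹ᵁ U)) (Coh.toGlobal σ' b)) •
        pullSec g' M m := rfl

lemma resTop_app (r : Γ(X, ⊤)) (U : X.Opens) :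
    g'.app U (Coh.resTop X (op U) r) = Coh.resTop X' (op (g' ⁻¹ᵁ U)) (g'.appTop r) :=
  congr(($(g'.naturality (homOfLE (le_top (a := U))).op)).hom r)

include sq in
lemma toGlobal_algebraMap (a : A) :
    Coh.toGlobal σ' (algebraMap A B a) = g'.appTop (Coh.toGlobal σ a) := by
  have h := congrArg (fun k : X' ⟶ Spec (CommRingCat.of A) =>
    k.appTop ((Scheme.ΓSpecIso (CommRingCat.of A)).inv a)) sq.w
  refine Eq.trans (congrArg (fun v => σ'.appTop v) ?_) h.symm
  exact (congr($(Scheme.ΓSpecIso_inv_naturality (CommRingCat.ofHom (algebraMap A B))) a))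

include sq in
lemma smulHom_comp_eta (a : A) (b : B) :
    smulHom σ M a ≫ etaEps σ' g' M b = etaEps σ' g' M (algebraMap A B a * b) :=
  Scheme.Modules.hom_ext _ _ fun U => AddCommGrpCat.ext fun m => by
    change (show Γ(X', g' ⁻¹ᵁ U) from Coh.resTop X' (op (g' ⁻¹ᵁ U)) (Coh.toGlobal σ' b)) •
        pullSec g' M ((show Γ(X, U) from Coh.resTop X (op U) (Coh.toGlobal σ a)) • m) =
      (show Γ(X', g' ⁻¹ᵁ U) from
        Coh.resTop X' (op (g' ⁻¹ᵁ U)) (Coh.toGlobal σ' (algebraMap A B a * b))) • pullSec g' M m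
    rw [pullSec_smul, smul_smul]
    congr 1
    rw [map_mul, map_mul, toGlobal_algebraMap sq, ← resTop_app]
    exact mul_comm _ _

variable [M.IsQuasicoherent]

include sq in
/-- Sections of `g'_* g'^* M` over an affine open. -/
theorem exists_sections_equiv {U : X.Opens} (hU : IsAffineOpen U) :
    letI : Module A Γ(M, U) :=
      Module.compHom _ ((σ.appLE ⊤ U le_top).hom.comp (Scheme.ΓSpecIso (CommRingCat.of A)).inv.hom)
    ∃ Φ : B ⊗[A] Γ(M, U) ≃+
        Γ((Scheme.Modules.pushforward g').obj ((Scheme.Modules.pullback g').obj M), U),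
      ∀ b m, Φ (b ⊗ₜ m) = (etaEps σ' g' M b).app U m := by
  let g := Spec.map (CommRingCat.ofHom (algebraMap A B))
  let S := Spec (CommRingCat.of A)
  let S' := Spec (CommRingCat.of B)
  haveI : IsAffineHom g' := MorphismProperty.of_isPullback sq.flip inferInstance
  let V : S.Opens := ⊤
  let V' : S'.Opens := ⊤
  let U' := g' ⁻¹ᵁ U
  have e : V' ≤ g ⁻¹ᵁ V := le_top
  have eU : U ≤ σ ⁻¹ᵁ V := le_top
  have e₁ : U' ≤ g' ⁻¹ᵁ U := le_rfl
  have e₂ : U' ≤ σ' ⁻¹ᵁ V' := le_top
  have hU'a : IsAffineOpen U' := hU.preimage g'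
  have hU' : U' = g' ⁻¹ᵁ U ⊓ σ' ⁻¹ᵁ V' := (inf_eq_left.2 le_top).symm
  have hp := (isIso_pushoutSection_iff sq e eU hU').1
    (isIso_pushoutSection_of_isAffineOpen sq e eU hU' (isAffineOpen_top _) (isAffineOpen_top _) hU)
  let := sectionsAlg σ eU
  let := sectionsAlg g e
  let := sectionsAlg g' e₁
  let := sectionsAlg σ' e₂
  let : Algebra Γ(S, V) Γ(X', U') :=
    ((g'.appLE U U' e₁).hom.comp (σ.appLE V U eU).hom).toAlgebra
  have : IsScalarTower Γ(S, V) Γ(X, U) Γ(X', U') := .of_algebraMap_eq fun _ => rfl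
  have : IsScalarTower Γ(S, V) Γ(S', V') Γ(X', U') :=
    .of_algebraMap_eq fun r => (FlatBC.appLE_sq sq.w e eU e₁ e₂ r).symm
  have hp' : Algebra.IsPushout Γ(S, V) Γ(X, U) Γ(S', V') Γ(X', U') :=
    CommRingCat.isPushout_iff_isPushout.1 hp
  have : Algebra.IsPushout Γ(S, V) Γ(S', V') Γ(X, U) Γ(X', U') := hp'.symm
  let : Module Γ(S, V) Γ(M, U) := Module.compHom _ (σ.appLE V U eU).hom
  have : IsScalarTower Γ(S, V) Γ(X, U) Γ(M, U) := .of_algebraMap_smul fun _ _ => rfl
  let : Module A Γ(M, U) :=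
    Module.compHom _ ((σ.appLE ⊤ U le_top).hom.comp (Scheme.ΓSpecIso (CommRingCat.of A)).inv.hom)
  obtain ⟨φ, hφ⟩ := FlatBC.exists_tensor_congr
    (Scheme.ΓSpecIso (CommRingCat.of A)).symm.commRingCatIsoToRingEquiv
    (Scheme.ΓSpecIso (CommRingCat.of B)).symm.commRingCatIsoToRingEquiv
    (FlatBC.specMap_appLE_inv A B) (AddEquiv.refl Γ(M, U)) (fun _ _ => rfl)
  let a := (Algebra.IsPushout.cancelBaseChange Γ(S, V) Γ(S', V') Γ(X, U) Γ(X', U') Γ(M, U)).symm
  let P := LinearEquiv.ofBijective (QCohMod.pullSecTensor g' M e₁)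
    (QCohMod.pullSecTensor_bijective g' M e₁ hU hU'a)
  refine ⟨φ.trans (a.toAddEquiv.trans P.toAddEquiv), fun b m => ?_⟩
  change QCohMod.pullSecTensor g' M e₁ (a (φ (b ⊗ₜ m))) = _
  rw [hφ]
  change QCohMod.pullSecTensor g' M e₁
    (a ((Scheme.ΓSpecIso (CommRingCat.of B)).inv b ⊗ₜ m)) = _
  rw [Algebra.IsPushout.cancelBaseChange_symm_tmul, QCohMod.pullSecTensor_tmul]
  exact (congrArg (_ • ·) (QCohMod.res_self ((Scheme.Modules.pullback g').obj M)
    (pullSec g' M m))).trans rfl

include sq in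
/-- Coordinates of `g'_* g'^* M` with respect to a dual basis. -/
theorem exists_retractions {n : ℕ} (b : Fin n → B) (φ : Fin n → (B →ₗ[A] A))
    (hb : ∀ c, ∑ j, φ j c • b j = c) :
    ∃ π : Fin n →
        ((Scheme.Modules.pushforward g').obj ((Scheme.Modules.pullback g').obj M) ⟶ M),
      (∑ j, π j ≫ etaEps σ' g' M (b j) = 𝟙 _) ∧
      ∀ c j, etaEps σ' g' M c ≫ π j = smulHom σ M (φ j c) := by
  classical
  haveI : HasFiniteBiproducts X.Modules := HasFiniteBiproducts.of_hasFiniteProducts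
  let T := (Scheme.Modules.pushforward g').obj ((Scheme.Modules.pullback g').obj M)
  let k : Fin n → (M ⟶ T) := fun j => etaEps σ' g' M (b j)
  let Q := ⨁ fun _ : Fin n => M
  let P : Q ⟶ T := biproduct.desc k
  let E : Fin n → (Q ⟶ M) := fun i => biproduct.desc fun j => smulHom σ M (φ i (b j))
  have happ : ∀ (U : X.Opens) {N : X.Modules} (d : Fin n → (M ⟶ N)) (q : Γ(Q, U)),
      (biproduct.desc d).app U q =
        ∑ j, (d j).app U ((biproduct.π (fun _ : Fin n => M) j).app U q) := by
    intro U N d q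
    let F : (Q ⟶ N) →+ Γ(N, U) := AddMonoidHom.mk' (fun ψ => ψ.app U q) fun _ _ => rfl
    have h0 : biproduct.desc d = ∑ j, biproduct.π (fun _ : Fin n => M) j ≫ d j :=
      biproduct.desc_eq
    exact (congrArg F h0).trans (map_sum F _ _)
  have hsurj : ∀ (U : X.Opens), IsAffineOpen U → ∀ t : Γ(T, U),
      ∃ m : Fin n → Γ(M, U), ∑ j, (k j).app U (m j) = t := by
    intro U hU t
    letI : Module A Γ(M, U) :=
      Module.compHom _ ((σ.appLE ⊤ U le_top).hom.comp (Scheme.ΓSpecIso (CommRingCat.of A)).inv.hom)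
    obtain ⟨Φ, hΦ⟩ := exists_sections_equiv sq M hU
    refine ⟨fun j => coord φ j (Φ.symm t), ?_⟩
    rw [← Φ.apply_symm_apply t]
    conv_rhs => rw [← sum_tmul_coord b φ hb (Φ.symm t), map_sum]
    simp only [Φ.apply_symm_apply]
    exact Finset.sum_congr rfl fun j _ => (hΦ _ _).symm
  have hker : ∀ (U : X.Opens), IsAffineOpen U → ∀ q : Γ(Q, U), P.app U q = 0 → ∀ i,
      (E i).app U q = 0 := by
    intro U hU q hq i
    letI : Module A Γ(M, U) :=
      Module.compHom _ ((σ.appLE ⊤ U le_top).hom.comp (Scheme.ΓSpecIso (CommRingCat.of A)).inv.hom)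
    obtain ⟨Φ, hΦ⟩ := exists_sections_equiv sq M hU
    have hz : ∑ j, b j ⊗ₜ[A] (show Γ(M, U) from (biproduct.π (fun _ : Fin n => M) j).app U q) = 0 := by
      apply Φ.injective
      rw [map_sum, map_zero]
      exact (Finset.sum_congr rfl fun j _ => hΦ _ _).trans ((happ U k q).symm.trans hq)
    have := congrArg (coord φ i) hz
    rw [map_sum, map_zero] at this
    refine (happ U _ q).trans (Eq.trans (Finset.sum_congr rfl fun j _ => ?_) this)
    rw [coord_tmul]
    rfl
  have hloc : ∀ (N : X.Modules) (W : X.Opens) (s : Γ(N, W)),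
      (∀ (U : X.Opens) (hle : U ≤ W), IsAffineOpen U → QCohMod.res N hle s = 0) → s = 0 := by
    intro N W s h
    refine Groth.CohTwo.eq_of_local N _ _ fun x hx => ?_
    obtain ⟨U, hU, hxU, hle⟩ := Opens.isBasis_iff_nbhd.mp X.isBasis_affineOpens hx
    exact ⟨U, hle, hxU, (h U hle hU).trans (map_zero _).symm⟩
  haveI : Epi P := Preadditive.epi_of_cancel_zero _ fun {N} ψ hψ => by
    refine Scheme.Modules.hom_ext _ _ fun W => AddCommGrpCat.ext fun t => ?_
    refine hloc N W _ fun U hle hU => ?_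
    refine (QCohMod.res_app ψ hle t).trans ?_
    obtain ⟨m, hm⟩ := hsurj U hU (QCohMod.res T hle t)
    rw [← hm, map_sum]
    refine Finset.sum_eq_zero fun j _ => ?_
    have h1 : k j ≫ ψ = 0 := by
      rw [show k j = biproduct.ι _ j ≫ P from (biproduct.ι_desc k j).symm, Category.assoc, hψ,
        comp_zero]
    exact ConcreteCategory.congr_hom (congrArg (fun γ => Scheme.Modules.Hom.app γ U) h1) (m j)
  have hE : ∀ i, kernel.ι P ≫ E i = 0 := fun i => by
    refine Scheme.Modules.hom_ext _ _ fun W => AddCommGrpCat.ext fun t => ?_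
    refine hloc M W _ fun U hle hU => ?_
    refine (QCohMod.res_app (kernel.ι P ≫ E i) hle t).trans ?_
    refine hker U hU _ ?_ i
    exact ConcreteCategory.congr_hom
      (congrArg (fun γ => Scheme.Modules.Hom.app γ U) (kernel.condition P)) (QCohMod.res _ hle t)
  let π : Fin n → (T ⟶ M) := fun i => Abelian.epiDesc P (E i) (hE i)
  have hkπ : ∀ j i, k j ≫ π i = smulHom σ M (φ i (b j)) := fun j i => by
    rw [show k j = biproduct.ι _ j ≫ P from (biproduct.ι_desc k j).symm, Category.assoc,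
      show P ≫ π i = E i from Abelian.comp_epiDesc P (E i) (hE i)]
    exact biproduct.ι_desc _ j
  have hexp : ∀ c, etaEps σ' g' M c = ∑ j, smulHom σ M (φ j c) ≫ k j := fun c => by
    have hadd : ∀ c c', etaEps σ' g' M (c + c') = etaEps σ' g' M c + etaEps σ' g' M c' :=
      fun c c' => by simp only [etaEps, map_add, Functor.map_add, Preadditive.comp_add]
    conv_lhs => rw [← hb c]
    refine (map_sum (AddMonoidHom.mk' _ hadd) _ _).trans (Finset.sum_congr rfl fun j _ => ?_)
    rw [smulHom_comp_eta sq M (φ j c) (b j), ← Algebra.smul_def]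
    rfl
  refine ⟨π, ?_, fun c i => ?_⟩
  · rw [← cancel_epi P, Category.comp_id]
    refine biproduct.hom_ext' _ _ fun l => ?_
    rw [biproduct.ι_desc, Preadditive.comp_sum, Preadditive.comp_sum]
    refine (Finset.sum_congr rfl fun j _ => ?_).trans (hexp (b l)).symm
    rw [← Category.assoc, show biproduct.ι _ l ≫ P = k l from biproduct.ι_desc k l,
      ← Category.assoc, hkπ]
  · rw [hexp, Preadditive.sum_comp]
    simp only [Category.assoc, hkπ, ← smulHom_mul, ← map_sum]
    congr 1
    conv_rhs => rw [← hb c, map_sum]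
    simp only [map_smul, smul_eq_mul]

include sq in
/-- Cohomology commutes with finite projective base change. -/
theorem exists_finite_bc_linEquiv [Module.Finite A B] [Module.Projective A B] (i : ℕ) :
    Nonempty (B ⊗[A] HA σ M i ≃ₗ[B] HA σ' ((Scheme.Modules.pullback g').obj M) i) := by
  classical
  haveI : IsAffineHom g' := MorphismProperty.of_isPullback sq.flip inferInstance
  haveI := QCohMod.isQCoh_pullback_obj g' M
  let N := (Scheme.Modules.pullback g').obj M
  let Φ := pushHA g' σ σ' N i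
  obtain ⟨n, b, φ, hb⟩ := exists_dual_basis A B
  obtain ⟨π, hπ1, hπ2⟩ := exists_retractions sq M b φ hb
  let η := (Scheme.Modules.pullbackPushforwardAdjunction g').unit.app M
  have key : ∀ c x, Φ (mapL σ (etaEps σ' g' M c) i x) = c • Φ (mapL σ η i x) := fun c x => by
    refine (congrArg Φ (mapL_comp σ _ _ i x)).trans ((pushHA_natural g' σ σ' _ i _).trans ?_)
    exact mapL_smulHom σ' N c i _
  let L : B ⊗[A] HA σ M i →+ HA σ' N i :=
    TensorProduct.liftAddHom
      (AddMonoidHom.mk' (fun c => AddMonoidHom.mk' (fun x => c • Φ (mapL σ η i x))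
          fun x y => by rw [map_add, map_add, smul_add])
        fun c c' => AddMonoidHom.ext fun x => add_smul c c' _)
      fun a c x => by
        change (a • c) • Φ (mapL σ η i x) = c • Φ (mapL σ η i (a • x))
        rw [← key, ← key, ← mapL_smulHom σ M a, ← mapL_comp, smulHom_comp_eta sq M a c,
          Algebra.smul_def]
  let R : HA σ' N i → B ⊗[A] HA σ M i := fun y => ∑ j, b j ⊗ₜ mapL σ (π j) i (Φ.symm y)
  have hLt : ∀ c x, L (c ⊗ₜ x) = c • Φ (mapL σ η i x) := fun _ _ => rfl
  have hLR : ∀ y, L (R y) = y := fun y => by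
    simp only [R, map_sum, hLt]
    refine (Finset.sum_congr rfl fun j _ => ((key (b j) _).symm.trans
      (congrArg Φ (mapL_comp σ (π j) _ i (Φ.symm y)).symm))).trans ?_
    rw [← map_sum, ← mapL_sum, hπ1, mapL_id, Φ.apply_symm_apply]
  have hR : ∀ c x, R (c • Φ (mapL σ η i x)) = c ⊗ₜ x := fun c x => by
    simp only [R, ← key, Φ.symm_apply_apply, ← mapL_comp, hπ2, mapL_smulHom,
      ← TensorProduct.smul_tmul, ← TensorProduct.sum_tmul, hb]
  have hRadd : ∀ y y', R (y + y') = R y + R y' := fun y y' => by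
    simp only [R, map_add, TensorProduct.tmul_add, Finset.sum_add_distrib]
  have hRL : ∀ z, R (L z) = z := fun z => by
    induction z using TensorProduct.induction_on with
    | zero => simp [R]
    | tmul c x => rw [hLt, hR]
    | add p q hp hq => rw [map_add, hRadd, hp, hq]
  refine ⟨{ L with invFun := R, left_inv := hRL, right_inv := hLR, map_smul' := fun c z => ?_ }⟩
  change L (c • z) = c • L z
  induction z using TensorProduct.induction_on with
  | zero => simp
  | tmul c' x => rw [TensorProduct.smul_tmul', hLt, hLt, smul_eq_mul, mul_smul]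
  | add p q hp hq => simp only [smul_add, map_add, hp, hq]

end Groth.CohBase.FiniteBC
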